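import Cfsg.Agent.Lib.CharDegree.Basic
import Cfsg.Agent.Lib.CharAction.Solvable
import Cfsg.Agent.Lib.CharAction.Conj
import Cfsg.Agent.Lib.CharAction.Over
import Cfsg.Agent.Lib.Core.Coprime
import Cfsg.Agent.Lib.Char.CliffordCorr
import Cfsg.Agent.Lib.Char.Exceptional.DetExtension
import Cfsg.Agent.Lib.CharDegree.SylowNormalizing
import Mathlib.GroupTheory.GroupAction.Quotient

/-!
# Characters fixed by a coprime group of operators, and degrees prime to `p`
-/

set_option autoImplicit false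

namespace CfsgLib.CrossDegree

open Subgroup CfsgLib.Char
open scoped Pointwise

variable {Γ : Type*} [Group Γ] [Finite Γ] {p q : ℕ} [Fact p.Prime] [Fact q.Prime]

omit [Fact p.Prime] [Fact q.Prime] in
/-- A subgroup meeting every conjugacy class is the whole group. -/
theorem eq_top_of_forall_conj_mem (D : Subgroup Γ) (h : ∀ n : Γ, ∃ x, x * n * x⁻¹ ∈ D) : D = ⊤ := by
  classical
  have := Fintype.ofFinite Γ
  have hsum := MulAction.sum_card_fixedBy_eq_card_orbits_mul_card_group Γ (Γ ⧸ D)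
  have h1 : ∀ n : Γ, 1 ≤ Fintype.card (MulAction.fixedBy (Γ ⧸ D) n) := by
    intro n
    obtain ⟨y, hy⟩ := h n
    refine Fintype.card_pos_iff.2 ⟨⟨QuotientGroup.mk y⁻¹, ?_⟩⟩
    rw [MulAction.mem_fixedBy, MulAction.Quotient.smul_mk, QuotientGroup.eq, smul_eq_mul,
      mul_inv_rev, inv_inv, show y * n⁻¹ * y⁻¹ = (y * n * y⁻¹)⁻¹ by group]
    exact D.inv_mem hy
  have horb : Fintype.card (Quotient (MulAction.orbitRel Γ (Γ ⧸ D))) = 1 := by
    have := MulAction.pretransitive_iff_subsingleton_quotient Γ (Γ ⧸ D) |>.1 inferInstance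
    exact Fintype.card_eq_one_iff.2 ⟨Quotient.mk _ (QuotientGroup.mk 1), fun x => Subsingleton.elim _ _⟩
  rw [horb, one_mul] at hsum
  by_contra hne
  have h2 : ∑ n : Γ, 1 < ∑ n : Γ, Fintype.card (MulAction.fixedBy (Γ ⧸ D) n) := by
    refine Finset.sum_lt_sum (fun n _ => h1 n) ⟨1, Finset.mem_univ _, ?_⟩
    rw [← Nat.card_eq_fintype_card, Nat.card_congr
      ((Equiv.setCongr (MulAction.fixedBy_one_eq_univ (Γ ⧸ D) Γ)).trans (Equiv.Set.univ _)),
      ← Subgroup.index_eq_card]
    exact Nat.one_lt_iff_ne_zero_and_ne_one.2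
      ⟨Subgroup.index_ne_zero_of_finite, fun e => hne (Subgroup.index_eq_one.1 e)⟩
  rw [Finset.sum_const, smul_eq_mul, mul_one, Finset.card_univ, hsum] at h2
  exact lt_irrefl _ h2

/-- Points for conjugation. -/
structure Pt (Γ : Type*) where
  /-- the element -/
  val : Γ

instance : MulAction Γ (Pt Γ) where
  smul g x := ⟨g * x.val * g⁻¹⟩
  one_smul x := congrArg Pt.mk (show (1 : Γ) * x.val * 1⁻¹ = x.val by group)
  mul_smul a b x := congrArg Pt.mk (show a * b * x.val * (a * b)⁻¹ = a * (b * x.val * b⁻¹) * a⁻¹ by group)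

omit [Finite Γ] in
theorem smul_eq_iff {g : Γ} {x y : Pt Γ} : g • x = y ↔ g * x.val * g⁻¹ = y.val :=
  ⟨fun h => congrArg Pt.val h, fun h => congrArg Pt.mk h⟩

omit [Fact p.Prime] [Fact q.Prime] in
/-- If every character of a coprime normal subgroup fixed by `P` is fixed by `A`, then `A` centralizes
the centralizer of `P`. -/
theorem centralizes_of_fixed (R : Subgroup Γ) [hR : R.Normal] (P A : Subgroup Γ) (hPA : P ≤ A)
    (hsolv : Group.IsSolvable A) (hcop : (Nat.card R).Coprime (Nat.card A))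
    (h : ∀ θ : Cfsg.IrrCharacter R, P ≤ Clifford.inertia hR (θ : R → ℂ) →
      A ≤ Clifford.inertia hR (θ : R → ℂ)) :
    R ⊓ centralizer (P : Set Γ) ≤ centralizer (A : Set Γ) := by
  classical
  have hPsolv : Group.IsSolvable P := Core.isSolvable_of_le hsolv hPA
  have hcopP : (Nat.card R).Coprime (Nat.card P) :=
    hcop.coprime_dvd_right (card_dvd_of_le hPA)
  have hnorm : ∀ S : Subgroup Γ, ∀ s ∈ S, ∀ g ∈ R, s * g * s⁻¹ ∈ R := fun S s _ g hg => hR.conj_mem g hg s
  letI iP : MulDistribMulAction P R := CharAction.conjAction R P (hnorm P)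
  letI iA : MulDistribMulAction A R := CharAction.conjAction R A (hnorm A)
  have hcP := CharAction.card_inv_eq_card_inv_classes hPsolv (G := R) hcopP
  have hcA := CharAction.card_inv_eq_card_inv_classes hsolv (G := R) hcop
  -- the same characters
  have hiff : ∀ θ : Cfsg.IrrCharacter R,
      CharAction.IsInv A (θ : R → ℂ) ↔ CharAction.IsInv P (θ : R → ℂ) := by
    intro θ
    refine ⟨fun hA a g => hA ⟨a, hPA a.2⟩ g, fun hP a g => ?_⟩
    exact congrFun (h θ (fun b hb => Clifford.mem_inertia.2 (funext fun n => hP ⟨b, hb⟩ n)) a.2) g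
  rw [Nat.card_congr (Equiv.subtypeEquivRight hiff), hcP] at hcA
  -- hence the same classes
  have hsub : ∀ K : ConjClasses R, CharAction.IsInvClass A K → CharAction.IsInvClass P K :=
    fun K hK a g hg => hK ⟨a, hPA a.2⟩ g hg
  have hcls : ∀ K : ConjClasses R, CharAction.IsInvClass P K → CharAction.IsInvClass A K := by
    have he := Set.eq_of_subset_of_ncard_le (s := {K : ConjClasses R | CharAction.IsInvClass A K})
      (t := {K : ConjClasses R | CharAction.IsInvClass P K}) hsub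
      (by rw [← Nat.card_coe_set_eq, ← Nat.card_coe_set_eq]; exact le_of_eq hcA)
    exact fun K hK => (Set.ext_iff.1 he K).2 hK
  -- every element of `C_R(P)` is conjugate there into `C_R(A)`
  set C := R ⊓ centralizer (P : Set Γ) with hC
  have hcover : ∀ c : C, ∃ x : C, x * c * x⁻¹ ∈ (centralizer (A : Set Γ)).subgroupOf C := by
    intro c
    have hcl : CharAction.IsInvClass A (ConjClasses.mk (⟨c, c.2.1⟩ : R)) := by
      refine hcls _ fun a g hg => ?_
      obtain ⟨r, hr⟩ := isConj_iff.1 (ConjClasses.mk_eq_mk_iff_isConj.1 hg.symm)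
      refine ConjClasses.mk_eq_mk_iff_isConj.2 (isConj_iff.2 ⟨a • r⁻¹, ?_⟩)
      have hfix : a • (⟨c, c.2.1⟩ : R) = ⟨c, c.2.1⟩ := Subtype.ext
        (mul_inv_eq_iff_eq_mul.2 (mem_centralizer_iff.1 c.2.2 a a.2))
      rw [← hr, ← smul_inv', ← smul_mul', ← smul_mul', inv_inv]
      refine Eq.trans ?_ hfix
      congr 1
      group
    obtain ⟨k, hk, hfixk⟩ := Core.exists_fixed_point (X := Pt Γ) (A := A) (K := R) le_normalizer_of_normal
      hcop.symm (Or.inl hsolv) (x := ⟨c⟩) fun a ha => by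
        obtain ⟨r, hr⟩ := isConj_iff.1 (ConjClasses.mk_eq_mk_iff_isConj.1
          (hcl ⟨a, ha⟩ ⟨c, c.2.1⟩ rfl).symm)
        exact ⟨r, r.2, congrArg Pt.mk (congrArg Subtype.val hr).symm⟩
    obtain ⟨x, hx, hxk⟩ := Core.exists_centralizing_mapsTo (X := Pt Γ) (A := P) (K := R)
      le_normalizer_of_normal hcopP.symm (Or.inl hPsolv) (x := (⟨c⟩ : Pt Γ)) (y := k • ⟨c⟩)
      (fun a ha => smul_eq_iff.2 (mul_inv_eq_iff_eq_mul.2 (mem_centralizer_iff.1 c.2.2 a ha)))
      (fun a ha => hfixk a (hPA ha)) ⟨k, hk, rfl⟩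
    refine ⟨⟨x, hx⟩, mem_subgroupOf.2 (mem_centralizer_iff.2 fun a ha => ?_)⟩
    have h1 := hfixk a ha
    rw [← hxk] at h1
    exact mul_inv_eq_iff_eq_mul.1 (congrArg Pt.val h1)
  have htop := eq_top_of_forall_conj_mem _ hcover
  exact subgroupOf_eq_top.1 htop

omit [Fact q.Prime] in
/-- Over a character of degree prime to `p` of a subgroup of index prime to `p` lies one of degree prime
to `p`. -/
theorem exists_not_dvd_over (J : Subgroup Γ) [Fintype J] (hJ : ¬ p ∣ J.index) (ψ : Cfsg.IrrCharacter J)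
    (hψ : ¬ p ∣ Cfsg.charDegree (ψ : J → ℂ)) :
    ∃ χ : Cfsg.IrrCharacter Γ, ¬ p ∣ Cfsg.charDegree (χ : Γ → ℂ) ∧ CharAction.mult J.subtype χ ψ ≠ 0 := by
  classical
  haveI := Fintype.ofFinite Γ
  haveI := Fintype.ofFinite (Cfsg.IrrCharacter Γ)
  have hsum : ∑ χ : Cfsg.IrrCharacter Γ, CharAction.mult J.subtype χ ψ * Cfsg.charDegree (χ : Γ → ℂ) =
      J.index * Cfsg.charDegree (ψ : J → ℂ) := by
    apply Nat.cast_injective (R := ℂ)
    push_cast
    rw [CharDegree.cast_irrDegree, ← indFun_apply_one J,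
      classFunction_apply_eq_sum (isClassFunction_indFun J _) 1]
    refine Finset.sum_congr rfl fun χ _ => ?_
    rw [CharDegree.cast_irrDegree, frobenius_reciprocity J _ (IsIrr.isClassFunction χ.2),
      ← classInner_conj_symm]
    show _ = (starRingEnd ℂ) (Cfsg.classInner (fun c => (χ : Γ → ℂ) (J.subtype c)) (ψ : J → ℂ)) * _
    rw [CharAction.classInner_eq_mult, map_natCast]
  by_contra hno
  push Not at hno
  refine ((Fact.out : p.Prime).dvd_mul.1 (hsum ▸ Finset.dvd_sum fun χ _ => ?_)).elim hJ hψ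
  by_cases hd : p ∣ Cfsg.charDegree (χ : Γ → ℂ)
  · exact hd.mul_left _
  · rw [hno χ hd, zero_mul]; exact dvd_zero p

omit [Fact q.Prime] in
/-- A character of a normal `p'`-subgroup fixed by a Sylow `p`-subgroup lies under a character of degree
prime to `p`. -/
theorem exists_not_dvd_over_invariant (R : Subgroup Γ) [hR : R.Normal] [Fintype R]
    (hRp : ¬ p ∣ Nat.card R) (P : Sylow p Γ) (θ : Cfsg.IrrCharacter R)
    (hP : (P : Subgroup Γ) ≤ Clifford.inertia hR (θ : R → ℂ)) :
    ∃ χ : Cfsg.IrrCharacter Γ, ¬ p ∣ Cfsg.charDegree (χ : Γ → ℂ) ∧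
      Cfsg.classInner (fun n : R => (χ : Γ → ℂ) n) (θ : R → ℂ) ≠ 0 := by
  classical
  have hp : p.Prime := Fact.out
  haveI := Fintype.ofFinite Γ
  set J : Subgroup Γ := R ⊔ (P : Subgroup Γ) with hJdef
  haveI := Fintype.ofFinite J
  have hRJ : R ≤ J := le_sup_left
  have hJI : J ≤ Clifford.inertia hR (θ : R → ℂ) :=
    sup_le (Clifford.le_inertia hR (IsIrr.isClassFunction θ.2)) hP
  set R' : Subgroup J := R.subgroupOf J with hR'
  haveI := Fintype.ofFinite R'
  haveI : R'.Normal := hR.comap _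
  let e : R' ≃* R := subgroupOfEquivOfLe hRJ
  have hirr : Cfsg.IsIrrCharacter R' fun x => (θ : R → ℂ) (e x) :=
    IsIrr.comp_surjective e.toMonoidHom e.surjective θ.2
  have hidx : ∃ k, R'.index = p ^ k := by
    obtain ⟨j, hj⟩ := IsPGroup.iff_card.1 P.2
    have h1 : R'.index ∣ Nat.card (P : Subgroup Γ) := by
      show R.relIndex (R ⊔ (P : Subgroup Γ)) ∣ _
      rw [sup_comm, relIndex_sup_right]
      exact relIndex_dvd_card _ _
    obtain ⟨i, -, hi⟩ := (Nat.dvd_prime_pow hp).1 (hj ▸ h1)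
    exact ⟨i, hi⟩
  obtain ⟨k, hk⟩ := hidx
  have hcop : ∀ {m : ℕ}, ¬ p ∣ m → R'.index.Coprime m := fun hm => by
    rw [hk]; exact (hp.coprime_iff_not_dvd.2 hm).pow_left k
  have hdeg : ¬ p ∣ Cfsg.charDegree (θ : R → ℂ) := fun hd =>
    hRp (hd.trans (CharDegree.charDegree_dvd_card θ))
  obtain ⟨χ', ⟨hχ', hres, -⟩, -⟩ := Exceptional.canonical_extension (N := R') hirr
    (fun g x => by
      refine Eq.trans ?_ (congrFun (hJI g.2) (e x))
      exact congrArg (θ : R → ℂ) (Subtype.ext rfl))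
    (d := Cfsg.charDegree (θ : R → ℂ))
    (by show (θ : R → ℂ) (e 1) = _; rw [map_one, CharDegree.cast_irrDegree])
    (by
      refine Nat.Coprime.mul_right ?_ (hcop hdeg)
      obtain ⟨m, τ, hτ, hτc⟩ := hirr
      rw [← hτc, CharExt.detOrder_eq]
      refine hcop fun hd => hRp ?_
      rw [← Nat.card_congr e.toEquiv]
      exact hd.trans (orderOf_dvd_of_pow_eq_one (CharExt.hom_pow_card _)))
  have hψ : ¬ p ∣ Cfsg.charDegree χ' := by
    rwa [show Cfsg.charDegree χ' = Cfsg.charDegree (θ : R → ℂ) from CharDegree.charDegree_eq_of_apply_one (by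
      rw [show χ' 1 = χ' ((1 : R') : J) from rfl, hres, map_one, CharDegree.cast_irrDegree])]
  obtain ⟨χ, hχ, hm⟩ := exists_not_dvd_over J
    (fun hd => P.not_dvd_index (hd.trans (index_dvd_of_le le_sup_right))) ⟨χ', hχ'⟩ hψ
  refine ⟨χ, hχ, ?_⟩
  have hm' : CharAction.mult (inclusion hRJ) (⟨χ', hχ'⟩ : Cfsg.IrrCharacter J) θ ≠ 0 := by
    intro h0
    have h1 := CharAction.classInner_eq_mult (inclusion hRJ) (⟨χ', hχ'⟩ : Cfsg.IrrCharacter J) θ
    rw [h0, Nat.cast_zero] at h1
    have h2 : (fun c : R => χ' (inclusion hRJ c)) = (θ : R → ℂ) := funext fun c => by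
      rw [show inclusion hRJ c = ((e.symm c : R') : J) from rfl, hres, e.apply_symm_apply]
    rw [h2, classInner_irr_self] at h1
    exact one_ne_zero h1
  show Cfsg.classInner (fun n : R => (χ : Γ → ℂ) (J.subtype (inclusion hRJ n))) (θ : R → ℂ) ≠ 0
  rw [show (fun n : R => (χ : Γ → ℂ) (J.subtype (inclusion hRJ n))) =
    fun n : R => (χ : Γ → ℂ) ((J.subtype.comp (inclusion hRJ)) n) from rfl,
    CharAction.classInner_eq_mult]
  exact Nat.cast_ne_zero.2 (CharAction.mult_comp_ne_zero _ _ hm hm')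

/-- A subgroup of index prime to `q` over `P` contains a conjugate of `Q` by an element centralizing `P`. -/
theorem exists_conj_le (R S : Subgroup Γ) [R.Normal] [S.Normal] (P Q I : Subgroup Γ) (hP : IsPGroup p P)
    (hQ : IsPGroup q Q) (hRQ : R ⊔ Q = S) (hPQ : P ≤ normalizer (Q : Set Γ)) (hSp : ¬ p ∣ Nat.card S)
    (hRq : ¬ q ∣ Nat.card R) (hPI : P ≤ I) (hI : ¬ q ∣ I.index) :
    ∃ c ∈ R ⊓ centralizer (P : Set Γ), ∀ y ∈ Q, c * y * c⁻¹ ∈ I := by
  have hp : p.Prime := Fact.out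
  have hq : q.Prime := Fact.out
  obtain ⟨i, hi⟩ := IsPGroup.iff_card.1 hP
  have hcopP : ∀ K : Subgroup Γ, K ≤ S → (Nat.card P).Coprime (Nat.card K) := fun K hK => by
    rw [hi]
    exact (hp.coprime_iff_not_dvd.2 fun hd => hSp (hd.trans (card_dvd_of_le hK))).pow_left i
  have : Group.IsSolvable P := have := hP.isNilpotent; inferInstance
  set K := I ⊓ S with hK
  have hPK : P ≤ normalizer (K : Set Γ) := le_trans (le_inf (hPI.trans le_normalizer) le_normalizer_of_normal)
    inf_normalizer_le_normalizer_inf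
  obtain ⟨T, hT⟩ := Core.exists_invariant_sylow hPK (hcopP K inf_le_right) (Or.inl ‹_›) q
  set T' := (T : Subgroup K).map K.subtype with hT'
  have hTS : T' ≤ S := (map_subtype_le _).trans inf_le_right
  -- `T'` has the order of `Q`
  obtain ⟨j, hj⟩ := IsPGroup.iff_card.1 hQ
  have hRQd : (Nat.card Q).Coprime (Nat.card R) := by
    rw [hj]; exact (hq.coprime_iff_not_dvd.2 hRq).pow_left j
  have hScard : Nat.card S = Nat.card Q * Nat.card R := by
    rw [← hRQ, sup_comm, Core.card_sup_of_coprime Q R le_normalizer_of_normal hRQd]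
  have hrel : ¬ q ∣ K.relIndex S := fun hd => hI (hd.trans (by
    rw [hK, inf_relIndex_right, ← SylowNorm.relIndex_sup_eq]
    exact ⟨_, (relIndex_mul_index le_sup_left).symm⟩))
  have hTcard : Nat.card T' = Nat.card (T : Subgroup K) :=
    (Nat.card_congr ((T : Subgroup K).equivMapOfInjective _ K.subtype_injective).toEquiv).symm
  obtain ⟨t, ht⟩ := IsPGroup.iff_card.1 T.2
  have hcards : Nat.card T' = Nat.card Q := by
    refine Nat.dvd_antisymm ?_ ?_
    · have h1 : Nat.card T' ∣ Nat.card Q * Nat.card R := hScard ▸ card_dvd_of_le hTS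
      refine (Nat.Coprime.dvd_mul_right ?_).1 h1
      rw [hTcard, ht]; exact (hq.coprime_iff_not_dvd.2 hRq).pow_left t
    · have h1 : Nat.card Q ∣ Nat.card T' * ((T : Subgroup K).index * K.relIndex S) := by
        have h2 : Nat.card K * K.relIndex S = Nat.card S := by
          rw [← relIndex_bot_left, relIndex_mul_relIndex _ _ _ bot_le inf_le_right, relIndex_bot_left]
        rw [← mul_assoc, hTcard, card_mul_index, h2, hScard]
        exact dvd_mul_right _ _
      refine (Nat.Coprime.dvd_mul_right ?_).1 h1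
      rw [hj]
      refine (hq.coprime_iff_not_dvd.2 fun hd => ?_).pow_left j
      exact (hq.dvd_mul.1 hd).elim T.not_dvd_index hrel
  -- so they are conjugate in `S`
  have hQS : Q ≤ S := hRQ ▸ le_sup_right
  let Q' : Sylow q S := (hQ.comap_of_injective S.subtype S.subtype_injective).toSylow (by
    show ¬ q ∣ Q.relIndex S
    intro hd
    have h2 : Nat.card Q * Q.relIndex S = Nat.card Q * Nat.card R := by
      rw [← hScard, ← relIndex_bot_left, relIndex_mul_relIndex _ _ _ bot_le hQS, relIndex_bot_left]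
    exact hRq (Nat.eq_of_mul_eq_mul_left Nat.card_pos h2 ▸ hd))
  have hQ' : (Q' : Subgroup S).map S.subtype = Q := map_subgroupOf_eq_of_le hQS
  obtain ⟨s, hs, hsT⟩ := Core.exists_conj_of_card_eq Q' hTS (by rw [hQ', hcards])
  rw [hQ'] at hsT
  rw [← hRQ, sup_comm, Core.mem_sup_iff_mul' (H := Q) (N := R) le_normalizer_of_normal] at hs
  obtain ⟨r, hr, y, hy, rfl⟩ := hs
  have hrT : MulAut.conj r • Q = T' := by
    rw [← hsT, map_mul, mul_smul, Core.mem_normalizer_iff_conj_smul_eq.1 (le_normalizer hy)]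
  obtain ⟨c, hc, hcT⟩ := Core.exists_centralizing_conj (A := P) (K := R) le_normalizer_of_normal
    (hcopP R (hRQ ▸ le_sup_left)) (Or.inl ‹_›) hPQ hT ⟨r, hr, hrT⟩
  refine ⟨c, hc, fun z hz => ?_⟩
  have h1 : c * z * c⁻¹ ∈ T' := by
    rw [← hcT, Core.mem_conj_smul_iff]
    simpa [mul_assoc] using hz
  exact ((map_subtype_le _ : T' ≤ K) h1).1

end CfsgLib.CrossDegree
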