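import Cfsg.Agent.Lib.CharDegree.CrossDegree.Coprime
import Cfsg.Agent.Lib.CharDegree.PPrimeOver
import Cfsg.Agent.Lib.Core.Gaschutz
import Cfsg.Agent.Lib.Core.Cores
import Cfsg.Agent.Lib.Core.Misc
import Cfsg.Agent.Lib.PLocal.PSolvable
import Mathlib.GroupTheory.SchurZassenhaus
import Mathlib.GroupTheory.FiniteAbelian.Duality
import Mathlib.Analysis.Complex.Polynomial.Basic

/-!
# When degrees prime to `p` are prime to `q`

If every character degree prime to `p` is prime to `q` in a `p`- and `q`-solvable group with trivial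
`O_{p'}`, then `q` does not divide the order of the group.
-/

set_option autoImplicit false

namespace CfsgLib.CrossDegree

open Subgroup CfsgLib.Char
open scoped Pointwise

universe u

variable {p q : ℕ} [Fact p.Prime] [Fact q.Prime]

/-- Every degree prime to `p` is prime to `q`. -/
def DegHyp (p q : ℕ) (G : Type*) [Group G] : Prop :=
  ∀ χ : Cfsg.IrrCharacter G, ¬ p ∣ Cfsg.charDegree (χ : G → ℂ) → ¬ q ∣ Cfsg.charDegree (χ : G → ℂ)

omit [Fact p.Prime] [Fact q.Prime] in
theorem DegHyp.of_surjective {G : Type*} [Group G] [Finite G] {K : Type*} [Group K] (h : DegHyp p q G)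
    (f : G →* K) (hf : Function.Surjective f) : DegHyp p q K := by
  intro χ
  have := h ⟨fun g => (χ : K → ℂ) (f g), IsIrr.comp_surjective f hf χ.2⟩
  simpa [Cfsg.charDegree] using this

omit [Fact p.Prime] [Fact q.Prime] in
theorem index_inertia_dvd {G : Type*} [Group G] [Fintype G] {N : Subgroup G} [Fintype N] (hN : N.Normal)
    (χ : Cfsg.IrrCharacter G) (θ : Cfsg.IrrCharacter N)
    (h : Cfsg.classInner (fun n : N => (χ : G → ℂ) n) (θ : N → ℂ) ≠ 0) :
    (Clifford.inertia hN (θ : N → ℂ)).index ∣ Cfsg.charDegree (χ : G → ℂ) := by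
  have h1 := Clifford.degree_eq hN θ.2 χ.2 h
  obtain ⟨m, hm⟩ : ∃ m : ℕ, Cfsg.classInner (fun n : N => (χ : G → ℂ) n) (θ : N → ℂ) = m :=
    IsChar.classInner_eq_natCast (IsChar.restrict N (IsIrr.isCharacter χ.2)) (IsIrr.isCharacter θ.2)
  rw [hm, ← CharDegree.cast_irrDegree, ← CharDegree.cast_irrDegree, ← Nat.cast_mul, ← Nat.cast_mul,
    Nat.cast_inj] at h1
  exact ⟨m * Cfsg.charDegree (θ : N → ℂ), by rw [h1]; ring⟩

/-- An operator group `Q` normalized by `P` fixing all `P`-fixed linear characters of a `p`-group of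
order prime to `|Q|` centralizes it. -/
theorem centralizes_of_dual {G : Type u} [Group G] [Finite G] (N : Subgroup G) [hNn : N.Normal]
    (hab : ∀ a ∈ N, ∀ b ∈ N, a * b = b * a) (hN : IsPGroup p N) (P Q : Subgroup G) (hP : IsPGroup p P)
    (hQ : ¬ p ∣ Nat.card Q) (hPQ : P ≤ normalizer (Q : Set G))
    (h : ∀ μ : N →* ℂˣ, (∀ a ∈ P, ∀ n n' : N, (n' : G) = a * n * a⁻¹ → μ n' = μ n) →
      ∀ y ∈ Q, ∀ n n' : N, (n' : G) = y * n * y⁻¹ → μ n' = μ n) :
    ∀ y ∈ Q, ∀ n ∈ N, y * n = n * y := by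
  classical
  letI : CommGroup N := { (inferInstance : Group N) with
    mul_comm := fun a b => Subtype.ext (hab a a.2 b b.2) }
  let C : Subgroup N := (centralizer (Q : Set G)).subgroupOf N
  suffices hC : C = ⊤ by
    intro y hy n hn
    exact mem_centralizer_iff.1 (subgroupOf_eq_top.1 hC hn) y hy
  let D : Subgroup (N →* ℂˣ) :=
    { carrier := {μ | ∀ c ∈ C, μ c = 1}
      one_mem' := fun c _ => rfl
      mul_mem' := fun {a b} ha hb c hc => by rw [MonoidHom.mul_apply, ha c hc, hb c hc, one_mul]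
      inv_mem' := fun {a} ha c hc => by rw [MonoidHom.inv_apply, ha c hc, inv_one] }
  suffices hD : D = ⊥ by
    by_contra hne
    obtain ⟨n, hn⟩ : ∃ n, n ∉ C := by
      by_contra! hall; exact hne (eq_top_iff.2 fun n _ => hall n)
    have hn' : (QuotientGroup.mk n : N ⧸ C) ≠ 1 := fun h1 => hn ((QuotientGroup.eq_one_iff n).1 h1)
    obtain ⟨φ, hφ⟩ := CommGroup.exists_apply_ne_one_of_hasEnoughRootsOfUnity (N ⧸ C) ℂ hn'
    have hmem : φ.comp (QuotientGroup.mk' C) ∈ D := fun c hc => by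
      rw [MonoidHom.comp_apply, QuotientGroup.mk'_apply, (QuotientGroup.eq_one_iff c).2 hc, map_one]
    rw [hD, mem_bot] at hmem
    exact hφ (by simpa using congrArg (fun f : N →* ℂˣ => f n) hmem)
  have : Finite (N →* ℂˣ) :=
    Nat.finite_of_card_ne_zero (by
      rw [CommGroup.card_monoidHom_of_hasEnoughRootsOfUnity]; exact Nat.card_pos.ne')
  have hDp : IsPGroup p D := fun μ => by
    obtain ⟨k, hk⟩ := IsPGroup.iff_card.1 hN
    exact ⟨k, Subtype.ext (MonoidHom.ext fun n => by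
      rw [SubgroupClass.coe_pow, MonoidHom.pow_apply, ← map_pow, ← hk, pow_card_eq_one', map_one]; rfl)⟩
  by_contra hne
  -- `P` acts on `D`
  have hconjQ : ∀ a ∈ P, ∀ y ∈ Q, a * y * a⁻¹ ∈ Q := fun a ha y hy => (mem_normalizer_iff.1 (hPQ ha) y).1 hy
  let act : P → D → D := fun a μ => ⟨(μ : N →* ℂˣ).comp
      (MulAut.conjNormal ((a : G)⁻¹) : MulAut N).toMonoidHom, fun c hc => μ.2 _ (mem_subgroupOf.2
    (mem_centralizer_iff.2 fun y hy => by
      have h1 := mem_centralizer_iff.1 (mem_subgroupOf.1 hc) ((a : G) * y * (a : G)⁻¹)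
        (hconjQ a a.2 y hy)
      show y * ((MulAut.conjNormal ((a : G)⁻¹) c : N) : G) = ((MulAut.conjNormal ((a : G)⁻¹) c : N) : G) * y
      rw [MulAut.conjNormal_apply, inv_inv]
      calc y * ((a : G)⁻¹ * c * a) = (a : G)⁻¹ * ((a : G) * y * (a : G)⁻¹ * c) * a := by group
        _ = (a : G)⁻¹ * (c * ((a : G) * y * (a : G)⁻¹)) * a := by rw [h1]
        _ = _ := by group))⟩
  letI : MulAction P D :=
    { smul := act
      one_smul := fun μ => Subtype.ext (MonoidHom.ext fun n => congrArg (μ : N →* ℂˣ)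
        (Subtype.ext (by simp)))
      mul_smul := fun a b μ => Subtype.ext (MonoidHom.ext fun n => congrArg (μ : N →* ℂˣ)
        (Subtype.ext (by simp [mul_assoc]))) }
  have hDcard : p ∣ Nat.card D := by
    obtain ⟨k, hk⟩ := IsPGroup.iff_card.1 hDp
    rcases k with _ | k
    · exact absurd (card_eq_one.1 (by simpa using hk)) hne
    · exact ⟨p ^ k, by rw [hk, pow_succ, mul_comm]⟩
  obtain ⟨μ, hμfix, hμ1⟩ := hP.exists_fixed_point_of_prime_dvd_card_of_fixed_point D hDcard
    (a := 1) (fun a => Subtype.ext (MonoidHom.ext fun n => rfl))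
  refine hμ1 (Subtype.ext (MonoidHom.ext fun n => ?_))
  show (1 : ℂˣ) = (μ : N →* ℂˣ) n
  have hQfix := h (μ : N →* ℂˣ) fun a ha m m' hm => by
    have h1 := congrArg (fun f : D => (f : N →* ℂˣ) m') (hμfix ⟨a, ha⟩)
    rw [← h1]
    exact congrArg (μ : N →* ℂˣ) (Subtype.ext (by
      show ((MulAut.conjNormal (a⁻¹) m' : N) : G) = m
      rw [MulAut.conjNormal_apply, inv_inv, hm]; group))
  -- the product over `Q` of the conjugates lies in `C`
  have := Fintype.ofFinite Q
  set w : N := ∏ y : Q, MulAut.conjNormal (y : G) n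
  have hw : w ∈ C := mem_subgroupOf.2 (mem_centralizer_iff.2 fun y hy => by
    have e : MulAut.conjNormal y w = w := by
      rw [map_prod]
      exact Fintype.prod_equiv (Equiv.mulLeft ⟨y, hy⟩) _ _ fun z => by
        rw [Equiv.coe_mulLeft, Subgroup.coe_mul, map_mul, MulAut.mul_apply]
    have e' := congrArg Subtype.val e
    rw [MulAut.conjNormal_apply] at e'
    exact mul_inv_eq_iff_eq_mul.1 e')
  have h2 : (μ : N →* ℂˣ) n ^ Nat.card Q = 1 := by
    rw [← μ.2 w hw, map_prod, Nat.card_eq_fintype_card, ← Finset.card_univ]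
    exact (Finset.prod_eq_pow_card (s := Finset.univ) fun (y : Q) _ => hQfix y y.2 n _ (MulAut.conjNormal_apply _ _)).symm
  obtain ⟨k, hk⟩ := IsPGroup.iff_card.1 hN
  have h3 : (μ : N →* ℂˣ) n ^ (p ^ k) = 1 := by rw [← hk, ← map_pow, pow_card_eq_one', map_one]
  have h4 := pow_gcd_eq_one.2 ⟨h2, h3⟩
  rw [(((Fact.out : p.Prime).coprime_iff_not_dvd.2 hQ).pow_left k).symm.gcd_eq_one, pow_one] at h4
  exact h4.symm

/-- The theorem. -/
theorem not_dvd_card : ∀ (n : ℕ) {G : Type u} [Group G] [Finite G], Nat.card G = n → p ≠ q →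
    Cfsg.IsPSolvable p G → Cfsg.IsPSolvable q G → Cfsg.pPrimeCore p G = ⊥ → DegHyp p q G →
    ¬ q ∣ Nat.card G := by
  intro n
  induction n using Nat.strongRecOn with
  | ind n ih =>
  intro G _ _ hn hpq hps hqs hO hyp
  classical
  haveI := Fintype.ofFinite G
  have hp : p.Prime := Fact.out
  have hq : q.Prime := Fact.out
  intro hqG
  have : Nontrivial G := (Finite.one_lt_card_iff_nontrivial).1
    (hq.one_lt.trans_le (Nat.le_of_dvd Nat.card_pos hqG))
  -- a minimal normal subgroup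
  obtain ⟨N₀, hN₀n, hN₀, hN₀c⟩ := SylowNorm.exists_normal hps
  have hN₀p : IsPGroup p N₀ := hN₀c.resolve_right fun h =>
    hN₀ (le_bot_iff.1 (hO ▸ Core.le_pPrimeCore h))
  obtain ⟨N, ⟨hNn, hN1, hNle⟩, hmin⟩ := (wellFounded_lt (α := Subgroup G)).has_min
    {K : Subgroup G | K.Normal ∧ K ≠ ⊥ ∧ K ≤ N₀} ⟨N₀, hN₀n, hN₀, le_rfl⟩
  have hNp : IsPGroup p N := hN₀p.to_le hNle
  haveI := hNn
  have hab : ∀ a ∈ N, ∀ b ∈ N, a * b = b * a := by
    have : Nontrivial N := (nontrivial_iff_ne_bot N).2 hN1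
    have hZ := hNp.center_nontrivial
    have hle : (center N).map N.subtype = N := by
      refine eq_of_le_of_not_lt (map_subtype_le _) fun hlt => hmin _ ⟨inferInstance, ?_,
        (map_subtype_le _).trans hNle⟩ hlt
      rw [Ne, map_eq_bot_iff_of_injective _ N.subtype_injective]
      exact (nontrivial_iff_ne_bot _).1 hZ
    intro a ha b hb
    obtain ⟨a', ha', rfl⟩ := hle.symm ▸ ha
    exact congrArg Subtype.val ((mem_center_iff.1 ha' ⟨b, hb⟩).symm)
  haveI hNab : IsMulCommutative N := ⟨⟨fun a b => Subtype.ext (hab a a.2 b b.2)⟩⟩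
  have hNgt : 1 < Nat.card N := N.one_lt_card_iff_ne_bot.2 hN1
  have hlt : Nat.card (G ⧸ N) < n := by
    rw [← hn, N.card_eq_card_quotient_mul_card_subgroup]
    exact lt_mul_of_one_lt_right Nat.card_pos hNgt
  -- `L / N = O_{p'}(G / N)`
  set Mbar := Cfsg.pPrimeCore p (G ⧸ N) with hMbar
  haveI : Mbar.Normal := Core.normal_pPrimeCore p _
  set L : Subgroup G := Mbar.comap (QuotientGroup.mk' N) with hL
  haveI : L.Normal := Normal.comap inferInstance _
  have hNL : N ≤ L := fun x hx => by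
    rw [hL, mem_comap, QuotientGroup.mk'_apply, (QuotientGroup.eq_one_iff x).2 hx]; exact one_mem _
  have hLidx : ¬ q ∣ L.index := by
    rw [hL, index_comap_of_surjective _ (QuotientGroup.mk'_surjective N), index_eq_card]
    refine ih _ ((Nat.le_of_dvd Nat.card_pos ?_).trans_lt hlt) rfl hpq
      (PLocal.isPSolvable_quotient (PLocal.isPSolvable_quotient hps N) _)
      (PLocal.isPSolvable_quotient (PLocal.isPSolvable_quotient hqs N) _)
      (Core.pPrimeCore_quotient_pPrimeCore p _)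
      ((hyp.of_surjective _ (QuotientGroup.mk'_surjective N)).of_surjective _
        (QuotientGroup.mk'_surjective Mbar))
    exact card_quotient_dvd_card _
  obtain ⟨i, hi⟩ := IsPGroup.iff_card.1 hNp
  have hqN : ¬ q ∣ Nat.card N := fun h =>
    hpq ((Nat.prime_dvd_prime_iff_eq hq hp).1 (hq.dvd_of_dvd_pow (hi ▸ h))).symm
  have hMp : ¬ p ∣ Nat.card Mbar := fun h => hp.ne_one
    (Nat.eq_one_of_dvd_coprimes (Core.coprime_card_pPrimeCore p _) h dvd_rfl)
  -- a complement of `N` in `L`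
  set N' : Subgroup L := N.subgroupOf L with hN'
  haveI : N'.Normal := hNn.comap _
  haveI : IsMulCommutative N' :=
    ⟨⟨fun a b => Subtype.ext (Subtype.ext (hab _ (mem_subgroupOf.1 a.2) _ (mem_subgroupOf.1 b.2)))⟩⟩
  have hN'card : Nat.card N' = Nat.card N := Nat.card_congr (subgroupOfEquivOfLe hNL).toEquiv
  have hN'idx : N'.index = Nat.card Mbar := by
    show N.relIndex L = _
    have h1 : N = (⊥ : Subgroup (G ⧸ N)).comap (QuotientGroup.mk' N) := by
      rw [MonoidHom.comap_bot, QuotientGroup.ker_mk']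
    calc N.relIndex L = ((⊥ : Subgroup (G ⧸ N)).comap (QuotientGroup.mk' N)).relIndex L :=
          congrArg (fun X : Subgroup G => X.relIndex L) h1
      _ = _ := by
        rw [hL, relIndex_comap, map_comap_eq_self_of_surjective (QuotientGroup.mk'_surjective N),
          relIndex_bot_left]
  have hcopN : (Nat.card N').Coprime N'.index := by
    rw [hN'card, hi, hN'idx]; exact (hp.coprime_iff_not_dvd.2 hMp).pow_left i
  obtain ⟨K₀, hK₀⟩ := exists_right_complement'_of_coprime hcopN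
  set L₁ : Subgroup G := K₀.map L.subtype with hL₁
  have hL₁L : L₁ ≤ L := map_subtype_le _
  have hK₀card : Nat.card K₀ = Nat.card Mbar := by rw [← hN'idx, hK₀.symm.index_eq_card]
  have hL₁card : Nat.card L₁ = Nat.card Mbar := by
    rw [hL₁, ← Nat.card_congr (K₀.equivMapOfInjective _ L.subtype_injective).toEquiv, hK₀card]
  have hNL₁ : N ⊓ L₁ = ⊥ := by
    refine eq_bot_iff.2 ?_
    rintro x ⟨hxN, y, hy, rfl⟩
    have h1 : y ∈ N' ⊓ K₀ := ⟨mem_subgroupOf.2 hxN, hy⟩
    rw [hK₀.disjoint.eq_bot, mem_bot] at h1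
    rw [h1]; rfl
  set H : Subgroup G := normalizer (L₁ : Set G) with hH
  have hdecomp : ∀ x : G, ∃ m ∈ N, ∃ h ∈ H, x = m * h := by
    intro x
    set B : Subgroup L := (MulAut.conj x • L₁).subgroupOf L with hB
    have hBle : MulAut.conj x • L₁ ≤ L := fun z hz => by
      rw [Core.mem_conj_smul_iff] at hz
      simpa [mul_assoc] using (inferInstance : L.Normal).conj_mem _ (hL₁L hz) x
    have hBcard : Nat.card B = Nat.card Mbar := by
      rw [hB, Nat.card_congr (subgroupOfEquivOfLe hBle).toEquiv, Core.card_conj_smul, hL₁card]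
    have hBc : IsComplement' N' B := isComplement'_of_coprime
      (by rw [hBcard, ← hN'idx, card_mul_index]) (by rw [hBcard, ← hN'idx]; exact hcopN)
    obtain ⟨g, hg⟩ := Core.Gaschutz.gaschutz_conj (K := N') (U := N') le_rfl hcopN hK₀ hBc (by
      rw [inf_comm, hK₀.disjoint.eq_bot, inf_comm, hBc.disjoint.eq_bot])
    have hgH : (g : G)⁻¹ * x ∈ H := by
      have e : MulAut.conj (g : G) • L₁ = MulAut.conj x • L₁ := by
        rw [← map_subgroupOf_eq_of_le hBle, ← hB, ← hg]
        ext z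
        rw [Core.mem_conj_smul_iff, hL₁]
        constructor
        · rintro ⟨y, hy, hyz⟩
          refine ⟨g * y * g⁻¹, Core.mem_conj_smul_iff.2 (by simpa [mul_assoc] using hy), ?_⟩
          simp only [coe_subtype] at hyz
          simp [hyz, mul_assoc]
        · rintro ⟨y, hy, rfl⟩
          exact ⟨_, Core.mem_conj_smul_iff.1 hy, by simp⟩
      rw [hH, Core.mem_normalizer_iff_conj_smul_eq, map_mul, mul_smul, ← e, ← mul_smul, ← map_mul,
        inv_mul_cancel, map_one, one_smul]
    -- split `g` along `L = N L₁`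
    obtain ⟨⟨a, b⟩, hab', -⟩ := hK₀.existsUnique g
    refine ⟨((a : L) : G), mem_subgroupOf.1 a.2, ((b : L) : G) * ((g : G)⁻¹ * x),
      H.mul_mem (le_normalizer ⟨_, b.2, rfl⟩) hgH, ?_⟩
    have e := congrArg (fun z : L => (z : G)) hab'
    simp only [Subgroup.coe_mul] at e
    rw [← mul_assoc, e, mul_inv_cancel_left]
  have hNH : N ⊓ H = ⊥ := by
    have hcent : N ⊓ H ≤ centralizer (L₁ : Set G) := by
      rintro x ⟨hxN, hxH⟩
      rw [mem_centralizer_iff]
      intro l hl
      have h1 : x * l * x⁻¹ * l⁻¹ ∈ N ⊓ L₁ := ⟨by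
        rw [mul_assoc x l, mul_assoc]
        exact N.mul_mem hxN (hNn.conj_mem _ (N.inv_mem hxN) l),
        L₁.mul_mem ((mem_normalizer_iff.1 hxH l).1 hl) (L₁.inv_mem hl)⟩
      rw [hNL₁, mem_bot] at h1
      exact (mul_inv_eq_iff_eq_mul.1 (mul_inv_eq_one.1 h1)).symm
    have hnorm : (N ⊓ H).Normal := ⟨fun x hx g => by
      obtain ⟨m, hm, h, hh, rfl⟩ := hdecomp g
      have hy : h * x * h⁻¹ ∈ N ⊓ H :=
        ⟨hNn.conj_mem _ hx.1 h, H.mul_mem (H.mul_mem hh hx.2) (H.inv_mem hh)⟩
      have : m * h * x * (m * h)⁻¹ = h * x * h⁻¹ := by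
        rw [show m * h * x * (m * h)⁻¹ = m * (h * x * h⁻¹) * m⁻¹ by group, hab m hm _ hy.1,
          mul_inv_cancel_right]
      rwa [this]⟩
    by_contra hne
    have heq : N ⊓ H = N := eq_of_le_of_not_lt inf_le_left fun hlt' =>
      hmin _ ⟨hnorm, hne, inf_le_left.trans hNle⟩ hlt'
    have hHtop : H = ⊤ := eq_top_iff.2 fun x _ => by
      obtain ⟨m, hm, h, hh, rfl⟩ := hdecomp x
      exact H.mul_mem (inf_eq_left.1 heq hm) hh
    haveI : L₁.Normal := normalizer_eq_top_iff.1 hHtop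
    have hb : L₁ ≤ Cfsg.pPrimeCore p G := Core.le_pPrimeCore
      (by rw [hL₁card]; exact (hp.coprime_iff_not_dvd.2 hMp).symm)
    rw [hO, le_bot_iff, ← card_eq_one, hL₁card] at hb
    have h1 := N'.card_mul_index
    rw [hN'card, hN'idx, hb, mul_one] at h1
    exact hqN (h1 ▸ ((Nat.Coprime.dvd_mul_right (hq.coprime_iff_not_dvd.2 hLidx)).1
      (L.card_mul_index ▸ hqG)))
  -- the retraction to `H`
  have hdisj : ∀ {m m' h h' : G}, m ∈ N → m' ∈ N → h ∈ H → h' ∈ H → m * h = m' * h' → h = h' := by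
    intro m m' h h' hm hm' hh hh' e
    have e1 : h' * h⁻¹ = m'⁻¹ * m := by rw [eq_comm, inv_mul_eq_iff_eq_mul, ← mul_assoc, ← e, mul_inv_cancel_right]
    have h1 : h' * h⁻¹ ∈ N ⊓ H := ⟨e1 ▸ N.mul_mem (N.inv_mem hm') hm, H.mul_mem hh' (H.inv_mem hh)⟩
    rw [hNH, mem_bot] at h1
    exact (mul_inv_eq_one.1 h1).symm
  choose fN hfN fH hfH hfe using hdecomp
  let φ : G →* H := MonoidHom.mk' (fun x => ⟨fH x, hfH x⟩) fun x y => Subtype.ext (by
    refine hdisj (hfN (x * y)) (N.mul_mem (hfN x) (hNn.conj_mem _ (hfN y) (fH x))) (hfH _)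
      (H.mul_mem (hfH x) (hfH y)) ?_
    rw [← hfe]
    conv_lhs => rw [hfe x, hfe y]
    simp only [Subgroup.coe_mul]
    group)
  have hφH : ∀ h : H, φ h = h := fun h => Subtype.ext
    (hdisj (hfN h) N.one_mem (hfH h) h.2 (by show fN h * fH h = 1 * (h : G); rw [← hfe, one_mul]))
  have hφs : Function.Surjective φ := fun h => ⟨h, hφH h⟩
  have hφN : ∀ x, x * ((φ x : H) : G)⁻¹ ∈ N := fun x => by
    show x * (fH x)⁻¹ ∈ N
    rw [mul_inv_eq_iff_eq_mul.2 (hfe x)]; exact hfN x
  have hφk : φ.ker = N := by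
    ext x
    rw [MonoidHom.mem_ker]
    refine ⟨fun h => ?_, fun h => Subtype.ext (hdisj (hfN x) h (hfH x) H.one_mem (by show fN x * fH x = x * 1; rw [← hfe, mul_one]))⟩
    have := hφN x
    rwa [h, OneMemClass.coe_one, inv_one, mul_one] at this
  have hypH : DegHyp p q H := hyp.of_surjective φ hφs
  have hqsH : Cfsg.IsPSolvable q H := PLocal.isPSolvable_subgroup hqs H
  -- the normal `p'`-subgroup `L ⊓ H`
  set LH : Subgroup H := L.subgroupOf H with hLH
  haveI : LH.Normal := (inferInstance : L.Normal).comap _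
  have hLcard : Nat.card L = Nat.card N * Nat.card LH := by
    have h1 : φ.ker.relIndex L = Nat.card (L.map φ) := by
      rw [← inf_relIndex_right, ← MonoidHom.comap_bot, ← relIndex_bot_left, ← relIndex_comap,
        inf_relIndex_right]
    have h2 : L.map φ = LH := by
      ext h
      constructor
      · rintro ⟨x, hx, rfl⟩
        have := L.mul_mem (L.inv_mem (hNL (hφN x))) hx
        rwa [mul_inv_rev, inv_inv, inv_mul_cancel_right] at this
      · exact fun hh => ⟨h, hh, hφH h⟩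
    rw [h2, hφk] at h1
    rw [← h1]
    have h3 := relIndex_mul_relIndex ⊥ N L bot_le hNL
    rw [relIndex_bot_left, relIndex_bot_left] at h3
    exact h3.symm
  have hLHc : Nat.card LH = Nat.card Mbar := by
    have h1 := N'.card_mul_index
    rw [hN'card, hN'idx, hLcard] at h1
    exact (Nat.eq_of_mul_eq_mul_left Nat.card_pos h1).symm
  have hLHp : ¬ p ∣ Nat.card LH := hLHc ▸ hMp
  have hLHq : q ∣ Nat.card LH := by
    have h1 : q ∣ Nat.card L := (Nat.Coprime.dvd_mul_right (hq.coprime_iff_not_dvd.2 hLidx)).1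
      (L.card_mul_index ▸ hqG)
    exact (hq.dvd_mul.1 (hLcard ▸ h1)).resolve_left hqN
  -- the layers `R < S`
  set R : Subgroup H := LH ⊓ Cfsg.pPrimeCore q H with hR
  haveI : (Cfsg.pPrimeCore q H).Normal := Core.normal_pPrimeCore q _
  haveI : R.Normal := normal_inf_normal _ _
  have hRq : ¬ q ∣ Nat.card R := fun h => hq.ne_one (Nat.eq_one_of_dvd_coprimes
    (Core.coprime_card_pPrimeCore q H) (h.trans (card_dvd_of_le inf_le_right)) dvd_rfl)
  obtain ⟨S, hSn, hRS, hSLH, hSR, hSq⟩ : ∃ S : Subgroup H, S.Normal ∧ R ≤ S ∧ S ≤ LH ∧ S ≠ R ∧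
      ∀ z ∈ S, ∃ k : ℕ, z ^ q ^ k ∈ R := by
    set π := QuotientGroup.mk' R
    set M₂ := LH.map π with hM₂
    haveI : M₂.Normal := Normal.map inferInstance π (QuotientGroup.mk'_surjective R)
    have hkey : ∀ A : Subgroup (H ⧸ R), A.Normal → A ≠ ⊥ → A ≤ M₂ →
        R ≤ A.comap π ∧ A.comap π ≤ LH ∧ A.comap π ≠ R := by
      intro A hA hA1 hAM
      have hle : R ≤ A.comap π := fun x hx => by
        rw [mem_comap, QuotientGroup.mk'_apply, (QuotientGroup.eq_one_iff x).2 hx]; exact A.one_mem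
      refine ⟨hle, ?_, fun e => hA1 ?_⟩
      · refine (comap_mono hAM).trans ?_
        rw [hM₂, comap_map_eq, QuotientGroup.ker_mk', sup_eq_left.2 inf_le_left]
      · rw [← map_comap_eq_self_of_surjective (QuotientGroup.mk'_surjective R) A, e,
          Subgroup.map_eq_bot_iff, QuotientGroup.ker_mk']
    haveI hnt : Nontrivial M₂ := (nontrivial_iff_ne_bot _).2 fun h => by
      rw [hM₂, Subgroup.map_eq_bot_iff, QuotientGroup.ker_mk'] at h
      exact hRq (hLHq.trans (card_dvd_of_le h))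
    obtain ⟨A, hA, hA1, hAc⟩ := SylowNorm.exists_normal
      (PLocal.isPSolvable_subgroup (PLocal.isPSolvable_quotient hqsH R) M₂)
    haveI := hA
    rcases hAc with hc | hc
    · set A' := (Cfsg.pCore q M₂).map M₂.subtype with hA'
      have hA'1 : A' ≠ ⊥ := by
        rw [hA', Ne, map_eq_bot_iff_of_injective _ M₂.subtype_injective]
        exact fun h => hA1 (le_bot_iff.1 (h ▸ Core.le_pCore hc))
      obtain ⟨h1, h2, h3⟩ := hkey A' inferInstance hA'1 (map_subtype_le _)
      refine ⟨A'.comap π, Normal.comap inferInstance _, h1, h2, h3, fun z hz => ?_⟩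
      obtain ⟨k, hk⟩ := ((Core.isPGroup_pCore q M₂).map M₂.subtype) ⟨π z, hz⟩
      refine ⟨k, (QuotientGroup.eq_one_iff _).1 ?_⟩
      have := congrArg Subtype.val hk
      simpa [π] using this
    · exfalso
      set A' := (Cfsg.pPrimeCore q M₂).map M₂.subtype with hA'
      have hA'1 : A' ≠ ⊥ := by
        rw [hA', Ne, map_eq_bot_iff_of_injective _ M₂.subtype_injective]
        exact fun h => hA1 (le_bot_iff.1 (h ▸ Core.le_pPrimeCore hc))
      obtain ⟨h1, h2, h3⟩ := hkey A' inferInstance hA'1 (map_subtype_le _)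
      haveI : (A'.comap π).Normal := Normal.comap inferInstance _
      have hA'q : ¬ q ∣ Nat.card A' := fun hd => hq.ne_one (Nat.eq_one_of_dvd_coprimes
        (Core.coprime_card_pPrimeCore q M₂) (hd.trans (card_map_dvd _ _)) dvd_rfl)
      refine h3 (le_antisymm (le_inf h2 (Core.le_pPrimeCore ?_)) h1)
      refine (hq.coprime_iff_not_dvd.2 fun hd => ?_).symm
      have e : Nat.card (A'.comap π) = Nat.card R * Nat.card A' := by
        rw [← relIndex_bot_left (A'.comap π), ← relIndex_mul_relIndex ⊥ R _ bot_le h1, relIndex_bot_left]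
        congr 1
        have h1' : R = (⊥ : Subgroup (H ⧸ R)).comap π := by rw [MonoidHom.comap_bot, QuotientGroup.ker_mk']
        calc R.relIndex (A'.comap π) = ((⊥ : Subgroup (H ⧸ R)).comap π).relIndex (A'.comap π) :=
              congrArg (fun X : Subgroup H => X.relIndex (A'.comap π)) h1'
          _ = _ := by
            rw [relIndex_comap, map_comap_eq_self_of_surjective (QuotientGroup.mk'_surjective R),
              relIndex_bot_left]
      rw [e] at hd
      exact (hq.dvd_mul.1 hd).elim hRq hA'q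
  haveI := hSn
  have hSp : ¬ p ∣ Nat.card S := fun h => hLHp (h.trans (card_dvd_of_le hSLH))
  have hRp : ¬ p ∣ Nat.card R := fun h => hSp (h.trans (card_dvd_of_le hRS))
  -- the operators
  obtain ⟨P₁⟩ : Nonempty (Sylow p H) := inferInstance
  obtain ⟨j, hj⟩ := IsPGroup.iff_card.1 P₁.2
  have hP₁solv : Group.IsSolvable (P₁ : Subgroup H) := have := P₁.2.isNilpotent; inferInstance
  have hcopS : (Nat.card (P₁ : Subgroup H)).Coprime (Nat.card S) := by
    rw [hj]; exact (hp.coprime_iff_not_dvd.2 hSp).pow_left j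
  obtain ⟨T, hT⟩ := Core.exists_invariant_sylow (A := (P₁ : Subgroup H)) (K := S) le_normalizer_of_normal
    hcopS (Or.inl hP₁solv) q
  set Q₀ := (T : Subgroup S).map S.subtype with hQ₀
  have hQ₀q : IsPGroup q Q₀ := T.2.map _
  have hQ₀S : Q₀ ≤ S := map_subtype_le _
  have hRQ₀ : R ⊔ Q₀ = S := by
    refine le_antisymm (sup_le hRS hQ₀S) ?_
    rw [← relIndex_eq_one]
    refine Nat.eq_one_iff_not_exists_prime_dvd.2 fun r hr hd => ?_
    have h1 : r ∣ R.relIndex S := hd.trans (relIndex_dvd_of_le_left S le_sup_left)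
    have h2 : r ∣ Q₀.relIndex S := hd.trans (relIndex_dvd_of_le_left S le_sup_right)
    have hrq : r = q := by
      haveI := Fact.mk hr
      haveI : (R.subgroupOf S).Normal := (inferInstance : R.Normal).comap _
      have hqg : IsPGroup q (S ⧸ R.subgroupOf S) := fun z => by
        obtain ⟨z, rfl⟩ := QuotientGroup.mk_surjective z
        obtain ⟨k, hk⟩ := hSq z z.2
        exact ⟨k, by
          rw [← QuotientGroup.mk_pow, QuotientGroup.eq_one_iff, mem_subgroupOf, SubgroupClass.coe_pow]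
          exact hk⟩
      obtain ⟨k, hk⟩ := IsPGroup.iff_card.1 hqg
      refine (Nat.prime_dvd_prime_iff_eq hr hq).1 (hr.dvd_of_dvd_pow (n := k) ?_)
      rw [← hk, ← index_eq_card]
      exact h1
    subst hrq
    rw [hQ₀, relIndex, subgroupOf, comap_map_eq_self_of_injective S.subtype_injective] at h2
    exact T.not_dvd_index h2
  have hQ₀ne : Q₀ ≠ ⊥ := fun h => hSR (by rw [← hRQ₀, h, sup_bot_eq])
  set A : Subgroup H := (P₁ : Subgroup H) ⊔ Q₀ with hA
  obtain ⟨t, ht⟩ := IsPGroup.iff_card.1 hQ₀q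
  have hcopPQ : (Nat.card (P₁ : Subgroup H)).Coprime (Nat.card Q₀) :=
    hcopS.coprime_dvd_right (card_dvd_of_le hQ₀S)
  have hAcard : Nat.card A = Nat.card (P₁ : Subgroup H) * Nat.card Q₀ :=
    Core.card_sup_of_coprime _ _ hT hcopPQ
  have hAsolv : Group.IsSolvable A := by
    haveI : (Q₀.subgroupOf A).Normal :=
      normal_subgroupOf_of_le_normalizer (sup_le hT le_normalizer)
    haveI : Group.IsSolvable (Q₀.subgroupOf A) := by
      have := (hQ₀q.comap_of_injective A.subtype A.subtype_injective).isNilpotent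
      exact inferInstanceAs (Group.IsSolvable (Q₀.comap A.subtype))
    haveI : Group.IsSolvable (A ⧸ Q₀.subgroupOf A) := by
      have h1 : Nat.card (A ⧸ Q₀.subgroupOf A) = p ^ j := by
        have h2 := (Q₀.subgroupOf A).card_eq_card_quotient_mul_card_subgroup
        rw [hAcard, Nat.card_congr (subgroupOfEquivOfLe (le_sup_right : Q₀ ≤ A)).toEquiv] at h2
        rw [← Nat.eq_of_mul_eq_mul_right Nat.card_pos h2, hj]
      have := (IsPGroup.of_card h1).isNilpotent
      infer_instance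
    exact Group.isSolvable_of_ker_le_range (Q₀.subgroupOf A).subtype (QuotientGroup.mk' (Q₀.subgroupOf A))
      (by rw [QuotientGroup.ker_mk', range_subtype])
  have hcopRA : (Nat.card R).Coprime (Nat.card A) := by
    rw [hAcard, hj, ht]
    exact Nat.Coprime.mul_right ((hp.coprime_iff_not_dvd.2 hRp).symm.pow_right j)
      ((hq.coprime_iff_not_dvd.2 hRq).symm.pow_right t)
  -- `C_R(P₁)` centralizes `Q₀`
  have hcent : R ⊓ centralizer ((P₁ : Subgroup H) : Set H) ≤ centralizer (A : Set H) := by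
    haveI := Fintype.ofFinite R
    refine centralizes_of_fixed R _ A le_sup_left hAsolv hcopRA fun θ hθ => sup_le hθ ?_
    haveI := Fintype.ofFinite H
    obtain ⟨χ, hχ, hχθ⟩ := exists_not_dvd_over_invariant R hRp P₁ θ hθ
    have hI : ¬ q ∣ (Clifford.inertia (inferInstance : R.Normal) (θ : R → ℂ)).index := fun hd =>
      hypH χ hχ (hd.trans (index_inertia_dvd _ χ θ hχθ))
    obtain ⟨c, hc, hcy⟩ := exists_conj_le R S _ Q₀ _ P₁.2 hQ₀q hRQ₀ hT hSp hRq hθ hI
    intro y hy
    have hcI : c ∈ Clifford.inertia (inferInstance : R.Normal) (θ : R → ℂ) :=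
      Clifford.le_inertia _ (IsIrr.isClassFunction θ.2) hc.1
    have := mul_mem (mul_mem (inv_mem hcI) (hcy y hy)) hcI
    simpa [mul_assoc] using this
  -- so `Q₀` centralizes `N`
  have hQN : ∀ y ∈ Q₀, ∀ m ∈ N, (y : G) * m = m * y := by
    intro y hy
    refine centralizes_of_dual N hab hNp ((P₁ : Subgroup H).map H.subtype) (Q₀.map H.subtype) (P₁.2.map _)
      (fun hd => hSp ((hd.trans (card_map_dvd _ _)).trans (card_dvd_of_le hQ₀S))) ?_ ?_ (y : G) ⟨y, hy, rfl⟩
    · exact (map_mono hT).trans (le_normalizer_map _)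
    intro μ hμ z hz
    haveI := Fintype.ofFinite N
    set P : Sylow p G := ((P₁.2.comap_of_ker_isPGroup φ (hφk ▸ hNp)) :
      IsPGroup p ((P₁ : Subgroup H).comap φ)).toSylow
        (by rw [index_comap_of_surjective _ hφs]; exact P₁.not_dvd_index) with hP
    have hPmem : ∀ x : (P : Subgroup G), φ x ∈ (P₁ : Subgroup H) := fun x => x.2
    have hconj : ∀ (x : G) (m : N) (hm : φ x ∈ (P₁ : Subgroup H)) (hmem : x * m * x⁻¹ ∈ N),
        μ ⟨x * m * x⁻¹, hmem⟩ = μ m := by
      intro x m hm hmem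
      refine hμ _ ⟨_, hm, rfl⟩ m ⟨x * m * x⁻¹, hmem⟩ ?_
      show x * m * x⁻¹ = ((φ x : H) : G) * m * ((φ x : H) : G)⁻¹
      have h1 := hφN x
      have h2 := hNn.conj_mem (m : G) m.2 (φ x : H)
      calc x * m * x⁻¹ = (x * ((φ x : H) : G)⁻¹) * (((φ x : H) : G) * m * ((φ x : H) : G)⁻¹) *
            (x * ((φ x : H) : G)⁻¹)⁻¹ := by group
        _ = _ := by rw [hab _ h1 _ h2, mul_inv_cancel_right]
    let lamh : (P : Subgroup G) →* ℂˣ := MonoidHom.mk' (fun x => μ ⟨(x : G) * ((φ x : H) : G)⁻¹, hφN x⟩)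
      fun x x' => by
        have h2 := hNn.conj_mem _ (hφN x') (φ x : H)
        rw [← hμ _ ⟨_, hPmem x, rfl⟩ ⟨_, hφN x'⟩ ⟨_, h2⟩ rfl, ← map_mul]
        refine congrArg μ (Subtype.ext ?_)
        simp only [Subgroup.coe_mul, map_mul]
        group
    haveI := Fintype.ofFinite (P : Subgroup G)
    let lam : Cfsg.IrrCharacter (P : Subgroup G) := ⟨_, isIrrCharacter_linear lamh⟩
    let μc : Cfsg.IrrCharacter N := ⟨_, isIrrCharacter_linear μ⟩
    obtain ⟨χ, hχ, hχl⟩ := CharDegree.exists_not_dvd_over_sylow P lam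
      (CharDegree.charDegree_eq_of_apply_one (by simp [lam]))
    have hNP : N ≤ (P : Subgroup G) := fun m hm => show φ m ∈ (P₁ : Subgroup H) by
      rw [MonoidHom.mem_ker.1 (hφk.symm ▸ hm)]; exact one_mem _
    have hχμ : Cfsg.classInner (fun m : N => (χ : G → ℂ) m) (μc : N → ℂ) ≠ 0 := by
      have hm1 : CharAction.mult (P : Subgroup G).subtype χ lam ≠ 0 := fun h0 => hχl (by
        rw [show (fun x : (P : Subgroup G) => (χ : G → ℂ) x) =
          fun x => (χ : G → ℂ) ((P : Subgroup G).subtype x) from rfl, CharAction.classInner_eq_mult, h0,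
          Nat.cast_zero])
      have hm2 : CharAction.mult (inclusion hNP) lam μc ≠ 0 := by
        intro h0
        have h1 := CharAction.classInner_eq_mult (inclusion hNP) lam μc
        rw [h0, Nat.cast_zero, show (fun m : N => (lam : ↥(P : Subgroup G) → ℂ) (inclusion hNP m)) =
          (μc : N → ℂ) from funext fun m => by
            show ((μ ⟨(m : G) * ((φ m : H) : G)⁻¹, _⟩ : ℂˣ) : ℂ) = μ m
            congr 2
            refine Subtype.ext ?_
            show (m : G) * ((φ m : H) : G)⁻¹ = m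
            rw [MonoidHom.mem_ker.1 (hφk.symm ▸ m.2 : (m : G) ∈ φ.ker)]
            simp, classInner_irr_self] at h1
        exact one_ne_zero h1
      show Cfsg.classInner (fun m : N => (χ : G → ℂ) (((P : Subgroup G).subtype.comp (inclusion hNP)) m)) _ ≠ 0
      rw [CharAction.classInner_eq_mult]
      exact Nat.cast_ne_zero.2 (CharAction.mult_comp_ne_zero _ _ hm1 hm2)
    set I := Clifford.inertia hNn (μc : N → ℂ) with hIdef
    have hI : ¬ q ∣ I.index := fun hd => hyp χ hχ (hd.trans (index_inertia_dvd hNn χ μc hχμ))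
    have hIcomap : (I.subgroupOf H).comap φ = I := by
      ext x
      have hn : x * ((φ x : H) : G)⁻¹ ∈ I := Clifford.le_inertia _ (IsIrr.isClassFunction μc.2) (hφN x)
      rw [mem_comap, mem_subgroupOf]
      refine ⟨fun h => ?_, fun h => ?_⟩
      · have := mul_mem hn h; rwa [inv_mul_cancel_right] at this
      · have := mul_mem (inv_mem hn) h; simpa [mul_assoc] using this
    have hPI : (P₁ : Subgroup H) ≤ I.subgroupOf H := fun a ha => by
      rw [mem_subgroupOf, hIdef, Clifford.mem_inertia]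
      funext m
      rw [Clifford.conjFn_apply]
      show ((μ _ : ℂˣ) : ℂ) = μ m
      rw [hconj (a : G) m (by rw [hφH a]; exact ha) _]
    obtain ⟨c, hc, hcy⟩ := exists_conj_le R S _ Q₀ (I.subgroupOf H) P₁.2 hQ₀q hRQ₀ hT hSp hRq hPI
      (by rw [← index_comap_of_surjective _ hφs, hIcomap]; exact hI)
    obtain ⟨z', hz', rfl⟩ := hz
    have hzc : c * z' * c⁻¹ = z' := by
      rw [← mem_centralizer_iff.1 (hcent hc) z' (le_sup_right (a := (P₁ : Subgroup H)) hz'),
        mul_inv_cancel_right]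
    have hzI := hcy z' hz'
    rw [hzc, mem_subgroupOf, hIdef, Clifford.mem_inertia] at hzI
    intro m m' hm
    have h1 := congrFun hzI m
    rw [Clifford.conjFn_apply] at h1
    refine Units.ext (Eq.trans ?_ h1)
    exact congrArg (fun v : N => ((μ v : ℂˣ) : ℂ)) (Subtype.ext hm)
  -- contradiction
  set Z : Subgroup H := LH ⊓ (centralizer (N : Set G)).subgroupOf H with hZ
  haveI : (centralizer (N : Set G)).Normal := normal_centralizer
  haveI : Z.Normal := by
    haveI : ((centralizer (N : Set G)).subgroupOf H).Normal := Normal.comap inferInstance _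
    exact normal_inf_normal _ _
  have hZG : (Z.map H.subtype).Normal := ⟨fun x hx g => by
    obtain ⟨z, hz, rfl⟩ := hx
    have h1 := hφN g
    have hc : ((φ g * z * (φ g)⁻¹ : H) : G) ∈ centralizer (N : Set G) :=
      ((inferInstance : Z.Normal).conj_mem z hz (φ g)).2
    refine ⟨φ g * z * (φ g)⁻¹, (inferInstance : Z.Normal).conj_mem z hz (φ g), ?_⟩
    show ((φ g * z * (φ g)⁻¹ : H) : G) = g * (z : G) * g⁻¹
    have h2 := mem_centralizer_iff.1 hc _ h1
    calc ((φ g * z * (φ g)⁻¹ : H) : G) = (g * ((φ g : H) : G)⁻¹) * ((φ g * z * (φ g)⁻¹ : H) : G) *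
          (g * ((φ g : H) : G)⁻¹)⁻¹ := by rw [h2, mul_inv_cancel_right]
      _ = _ := by simp only [Subgroup.coe_mul, InvMemClass.coe_inv]; group⟩
  haveI := hZG
  have hZ1 : Z.map H.subtype = ⊥ := by
    have h1 : Z.map H.subtype ≤ Cfsg.pPrimeCore p G := Core.le_pPrimeCore
      (hp.coprime_iff_not_dvd.2 fun hd =>
        hLHp ((hd.trans (card_map_dvd _ _)).trans (card_dvd_of_le inf_le_left))).symm
    rwa [hO, le_bot_iff] at h1
  refine hQ₀ne (le_bot_iff.1 fun y hy => ?_)
  have h1 : (y : G) ∈ Z.map H.subtype := ⟨y, ⟨hSLH (hQ₀S hy), mem_subgroupOf.2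
    (mem_centralizer_iff.2 fun m hm => (hQN y hy m hm).symm)⟩, rfl⟩
  rw [hZ1, mem_bot] at h1
  exact mem_bot.2 (Subtype.ext h1)

end CfsgLib.CrossDegree
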